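import Cfsg.Agent.H90.SiftON.Data
import Cfsg.Agent.CosetEnum.ON.T8Data

/-! Check (generated, owner: helper90). -/

set_option autoImplicit false
set_option maxRecDepth 1000000

namespace Cfsg.Agent.H90.SiftON

open Cfsg.Agent.CosetEnum Cfsg.Agent.H90.Sift

theorem n45 : allR (newB P Cfsg.Agent.CosetEnum.ONT8.P ws) 67500 1500 = true := by decide +kernel

theorem n46 : allR (newB P Cfsg.Agent.CosetEnum.ONT8.P ws) 69000 1500 = true := by decide +kernel

theorem n47 : allR (newB P Cfsg.Agent.CosetEnum.ONT8.P ws) 70500 1500 = true := by decide +kernel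

theorem n48 : allR (newB P Cfsg.Agent.CosetEnum.ONT8.P ws) 72000 1500 = true := by decide +kernel

theorem n49 : allR (newB P Cfsg.Agent.CosetEnum.ONT8.P ws) 73500 1500 = true := by decide +kernel


end Cfsg.Agent.H90.SiftON
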