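import Cfsg.Agent.H90.SiftON.Data

/-! Check (generated, owner: helper90). -/

set_option autoImplicit false
set_option maxRecDepth 1000000

namespace Cfsg.Agent.H90.SiftON

open Cfsg.Agent.CosetEnum Cfsg.Agent.H90.Sift

theorem sB33 : pts P 0x4 285 0x1fffffffffffffffffffffffffffffffffffffffffffffffffffffffffffffffffffffff gw LB 10000 112551 0x0 = true := by decide +kernel

theorem sB34 : pts P 0x4 285 0x1fffffffffffffffffffffffffffffffffffffffffffffffffffffffffffffffffffffff gw LB 209 122551 0x0 = true := by decide +kernel

end Cfsg.Agent.H90.SiftON
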