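import Cfsg.Agent.H90.SiftMain
import Cfsg.Agent.H90.SiftON.Small
import Cfsg.Agent.H90.SiftON.N0
import Cfsg.Agent.H90.SiftON.N1
import Cfsg.Agent.H90.SiftON.N2
import Cfsg.Agent.H90.SiftON.N3
import Cfsg.Agent.H90.SiftON.N4
import Cfsg.Agent.H90.SiftON.N5
import Cfsg.Agent.H90.SiftON.N6
import Cfsg.Agent.H90.SiftON.N7
import Cfsg.Agent.H90.SiftON.N8
import Cfsg.Agent.H90.SiftON.N9
import Cfsg.Agent.H90.SiftON.N10
import Cfsg.Agent.H90.SiftON.N11
import Cfsg.Agent.H90.SiftON.N12
import Cfsg.Agent.H90.SiftON.N13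
import Cfsg.Agent.H90.SiftON.N14
import Cfsg.Agent.H90.SiftON.N15
import Cfsg.Agent.H90.SiftON.N16
import Cfsg.Agent.H90.SiftON.A0
import Cfsg.Agent.H90.SiftON.A1
import Cfsg.Agent.H90.SiftON.A2
import Cfsg.Agent.H90.SiftON.A3
import Cfsg.Agent.H90.SiftON.A4
import Cfsg.Agent.H90.SiftON.A5
import Cfsg.Agent.H90.SiftON.A6
import Cfsg.Agent.H90.SiftON.A7
import Cfsg.Agent.H90.SiftON.A8
import Cfsg.Agent.H90.SiftON.A9
import Cfsg.Agent.H90.SiftON.A10
import Cfsg.Agent.H90.SiftON.A11
import Cfsg.Agent.H90.SiftON.A12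
import Cfsg.Agent.H90.SiftON.A13
import Cfsg.Agent.H90.SiftON.A14
import Cfsg.Agent.H90.SiftON.A15
import Cfsg.Agent.H90.SiftON.A16
import Cfsg.Agent.H90.SiftON.A17
import Cfsg.Agent.H90.SiftON.A18
import Cfsg.Agent.H90.SiftON.A19
import Cfsg.Agent.H90.SiftON.A20
import Cfsg.Agent.H90.SiftON.A21
import Cfsg.Agent.H90.SiftON.A22
import Cfsg.Agent.H90.SiftON.A23
import Cfsg.Agent.H90.SiftON.A24
import Cfsg.Agent.H90.SiftON.A25
import Cfsg.Agent.H90.SiftON.A26
import Cfsg.Agent.H90.SiftON.A27
import Cfsg.Agent.H90.SiftON.A28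
import Cfsg.Agent.H90.SiftON.A29
import Cfsg.Agent.H90.SiftON.A30
import Cfsg.Agent.H90.SiftON.A31
import Cfsg.Agent.H90.SiftON.A32
import Cfsg.Agent.H90.SiftON.A33
import Cfsg.Agent.H90.SiftON.A34
import Cfsg.Agent.H90.SiftON.A35
import Cfsg.Agent.H90.SiftON.A36
import Cfsg.Agent.H90.SiftON.A37
import Cfsg.Agent.H90.SiftON.A38
import Cfsg.Agent.H90.SiftON.A39
import Cfsg.Agent.H90.SiftON.B0
import Cfsg.Agent.H90.SiftON.B1
import Cfsg.Agent.H90.SiftON.B2
import Cfsg.Agent.H90.SiftON.B3
import Cfsg.Agent.H90.SiftON.B4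
import Cfsg.Agent.H90.SiftON.B5
import Cfsg.Agent.H90.SiftON.B6
import Cfsg.Agent.H90.SiftON.B7
import Cfsg.Agent.H90.SiftON.B8
import Cfsg.Agent.H90.SiftON.B9
import Cfsg.Agent.H90.SiftON.B10
import Cfsg.Agent.H90.SiftON.B11
import Cfsg.Agent.H90.SiftON.B12
import Cfsg.Agent.H90.SiftON.B13
import Cfsg.Agent.H90.SiftON.B14
import Cfsg.Agent.H90.SiftON.B15
import Cfsg.Agent.H90.SiftON.B16
import Cfsg.Agent.H90.SiftON.B17
import Cfsg.Agent.H90.SiftON.B18
import Cfsg.Agent.H90.SiftON.B19
import Cfsg.Agent.H90.SiftON.B20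
import Cfsg.Agent.H90.SiftON.B21
import Cfsg.Agent.H90.SiftON.B22
import Cfsg.Agent.H90.SiftON.B23
import Cfsg.Agent.H90.SiftON.B24
import Cfsg.Agent.H90.SiftON.B25
import Cfsg.Agent.H90.SiftON.B26
import Cfsg.Agent.H90.SiftON.B27
import Cfsg.Agent.H90.SiftON.B28
import Cfsg.Agent.H90.SiftON.B29
import Cfsg.Agent.H90.SiftON.B30
import Cfsg.Agent.H90.SiftON.B31
import Cfsg.Agent.H90.SiftON.B32
import Cfsg.Agent.H90.SiftON.B33
import Cfsg.Agent.H90.SiftON.B34
import Cfsg.Agent.H90.SiftON.B35
import Cfsg.Agent.H90.SiftON.B36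
import Cfsg.Agent.H90.SiftON.B37
import Cfsg.Agent.H90.SiftON.SA0
import Cfsg.Agent.H90.SiftON.SA1
import Cfsg.Agent.H90.SiftON.SA2
import Cfsg.Agent.H90.SiftON.SA3
import Cfsg.Agent.H90.SiftON.SA4
import Cfsg.Agent.H90.SiftON.SB0
import Cfsg.Agent.H90.SiftON.SB1
import Cfsg.Agent.H90.SiftON.SB2
import Cfsg.Agent.H90.SiftON.SB3
import Cfsg.Agent.H90.SiftON.SB4
import Cfsg.Agent.H90.SiftON.SB5
import Cfsg.Agent.H90.SiftON.SC0
import Cfsg.Agent.H90.SiftON.SC1
import Cfsg.Agent.H90.SiftON.SC2
import Cfsg.Agent.H90.SiftON.SC3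
import Cfsg.Agent.H90.SiftON.SC4

/-! Assembly (generated, owner: helper90). -/

set_option autoImplicit false
set_option maxRecDepth 1000000

namespace Cfsg.Agent.H90.SiftON

open Cfsg.Agent.CosetEnum Cfsg.Agent.H90.Sift

open Subgroup

theorem ncov : Cov (newB P Cfsg.Agent.CosetEnum.ONT8.P ws) 0 P.m :=
  ((((((((((((((((((((((((((((((((((((((((((((((((((((((((((((((((((((((((((((((((((Cov.of n0 rfl).trans (Cov.of n1 rfl)).trans (Cov.of n2 rfl)).trans (Cov.of n3 rfl)).trans (Cov.of n4 rfl)).trans (Cov.of n5 rfl)).trans (Cov.of n6 rfl)).trans (Cov.of n7 rfl)).trans (Cov.of n8 rfl)).trans (Cov.of n9 rfl)).trans (Cov.of n10 rfl)).trans (Cov.of n11 rfl)).trans (Cov.of n12 rfl)).trans (Cov.of n13 rfl)).trans (Cov.of n14 rfl)).trans (Cov.of n15 rfl)).trans (Cov.of n16 rfl)).trans (Cov.of n17 rfl)).trans (Cov.of n18 rfl)).trans (Cov.of n19 rfl)).trans (Cov.of n20 rfl)).trans (Cov.of n21 rfl)).trans (Cov.of n22 rfl)).trans (Cov.of n23 rfl)).trans (Cov.of n24 rfl)).trans (Cov.of n25 rfl)).trans (Cov.of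 n26 rfl)).trans (Cov.of n27 rfl)).trans (Cov.of n28 rfl)).trans (Cov.of n29 rfl)).trans (Cov.of n30 rfl)).trans (Cov.of n31 rfl)).trans (Cov.of n32 rfl)).trans (Cov.of n33 rfl)).trans (Cov.of n34 rfl)).trans (Cov.of n35 rfl)).trans (Cov.of n36 rfl)).trans (Cov.of n37 rfl)).trans (Cov.of n38 rfl)).trans (Cov.of n39 rfl)).trans (Cov.of n40 rfl)).trans (Cov.of n41 rfl)).trans (Cov.of n42 rfl)).trans (Cov.of n43 rfl)).trans (Cov.of n44 rfl)).trans (Cov.of n45 rfl)).trans (Cov.of n46 rfl)).trans (Cov.of n47 rfl)).trans (Cov.of n48 rfl)).trans (Cov.of n49 rfl)).trans (Cov.of n50 rfl)).trans (Cov.of n51 rfl)).trans (Cov.of n52 rfl)).trans (Cov.of n53 rfl)).trans (Cov.of n54 rfl)).trans (Cov.of n55 rfl)).trans (Cov.of n56 rfl)).trans (Cov.of n57 rfl)).trans (Cov.of n58 rfl)).trans (Cov.of n59 rfl)).trans (Cov.of n60 rfl)).trans (Cov.of n61 rfl)).trans (Cov.of n62 rfl)).trans (Cov.of n63 rfl)).trans (Cov.of n64 rfl)).trans (Cov.of n65 rfl)).trans (Cov.of n66 rfl)).trans (Cov.of n67 rfl)).trans (Cov.of n68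 rfl)).trans (Cov.of n69 rfl)).trans (Cov.of n70 rfl)).trans (Cov.of n71 rfl)).trans (Cov.of n72 rfl)).trans (Cov.of n73 rfl)).trans (Cov.of n74 rfl)).trans (Cov.of n75 rfl)).trans (Cov.of n76 rfl)).trans (Cov.of n77 rfl)).trans (Cov.of n78 rfl)).trans (Cov.of n79 rfl)).trans (Cov.of n80 rfl)).trans (Cov.of n81 rfl))

section

variable {G : Type*} [Group G] [MulAction G (Fin P.m)] {g : ℕ → G} (h : LettersOK P g)

include h

theorem levA0 : LevC P (closure ({g 1, g 3, g 5} : Set G)) [] 1659 mA0 122760 0 122760 :=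
    ((((((((((((((((((((((((((((((((show LevC P (closure ({g 1, g 3, g 5} : Set G)) [] 1659 mA0 _ _ _ from (lvS_sound h.ra h.mem (b := 1659) (show 1659 < 122760 by norm_num) a0_0)).append
      (lvS_sound h.ra h.mem (b := 1659) (show 1659 < 122760 by norm_num) a0_1)).append
      (lvS_sound h.ra h.mem (b := 1659) (show 1659 < 122760 by norm_num) a0_2)).append
      (lvS_sound h.ra h.mem (b := 1659) (show 1659 < 122760 by norm_num) a0_3)).append
      (lvS_sound h.ra h.mem (b := 1659) (show 1659 < 122760 by norm_num) a0_4)).append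
      (lvS_sound h.ra h.mem (b := 1659) (show 1659 < 122760 by norm_num) a0_5)).append
      (lvS_sound h.ra h.mem (b := 1659) (show 1659 < 122760 by norm_num) a0_6)).append
      (lvS_sound h.ra h.mem (b := 1659) (show 1659 < 122760 by norm_num) a0_7)).append
      (lvS_sound h.ra h.mem (b := 1659) (show 1659 < 122760 by norm_num) a0_8)).append
      (lvS_sound h.ra h.mem (b := 1659) (show 1659 < 122760 by norm_num) a0_9)).append
      (lvS_sound h.ra h.mem (b := 1659) (show 1659 < 122760 by norm_num) a0_10)).append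
      (lvS_sound h.ra h.mem (b := 1659) (show 1659 < 122760 by norm_num) a0_11)).append
      (lvS_sound h.ra h.mem (b := 1659) (show 1659 < 122760 by norm_num) a0_12)).append
      (lvS_sound h.ra h.mem (b := 1659) (show 1659 < 122760 by norm_num) a0_13)).append
      (lvS_sound h.ra h.mem (b := 1659) (show 1659 < 122760 by norm_num) a0_14)).append
      (lvS_sound h.ra h.mem (b := 1659) (show 1659 < 122760 by norm_num) a0_15)).append
      (lvS_sound h.ra h.mem (b := 1659) (show 1659 < 122760 by norm_num) a0_16)).append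
      (lvS_sound h.ra h.mem (b := 1659) (show 1659 < 122760 by norm_num) a0_17)).append
      (lvS_sound h.ra h.mem (b := 1659) (show 1659 < 122760 by norm_num) a0_18)).append
      (lvS_sound h.ra h.mem (b := 1659) (show 1659 < 122760 by norm_num) a0_19)).append
      (lvS_sound h.ra h.mem (b := 1659) (show 1659 < 122760 by norm_num) a0_20)).append
      (lvS_sound h.ra h.mem (b := 1659) (show 1659 < 122760 by norm_num) a0_21)).append
      (lvS_sound h.ra h.mem (b := 1659) (show 1659 < 122760 by norm_num) a0_22)).append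
      (lvS_sound h.ra h.mem (b := 1659) (show 1659 < 122760 by norm_num) a0_23)).append
      (lvS_sound h.ra h.mem (b := 1659) (show 1659 < 122760 by norm_num) a0_24)).append
      (lvS_sound h.ra h.mem (b := 1659) (show 1659 < 122760 by norm_num) a0_25)).append
      (lvS_sound h.ra h.mem (b := 1659) (show 1659 < 122760 by norm_num) a0_26)).append
      (lvS_sound h.ra h.mem (b := 1659) (show 1659 < 122760 by norm_num) a0_27)).append
      (lvS_sound h.ra h.mem (b := 1659) (show 1659 < 122760 by norm_num) a0_28)).append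
      (lvS_sound h.ra h.mem (b := 1659) (show 1659 < 122760 by norm_num) a0_29)).append
      (lvS_sound h.ra h.mem (b := 1659) (show 1659 < 122760 by norm_num) a0_30)).append
      (lvS_sound h.ra h.mem (b := 1659) (show 1659 < 122760 by norm_num) a0_31))

theorem levA1 : LevC P (closure ({g 1, g 3, g 5} : Set G)) [1659] 42324 mA1 6384 0 122760 :=
    (((((((show LevC P (closure ({g 1, g 3, g 5} : Set G)) [1659] 42324 mA1 _ _ _ from (lvS_sound h.ra h.mem (b := 42324) (show 42324 < 122760 by norm_num) a1_0)).append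
      (lvS_sound h.ra h.mem (b := 42324) (show 42324 < 122760 by norm_num) a1_1)).append
      (lvS_sound h.ra h.mem (b := 42324) (show 42324 < 122760 by norm_num) a1_2)).append
      (lvS_sound h.ra h.mem (b := 42324) (show 42324 < 122760 by norm_num) a1_3)).append
      (lvS_sound h.ra h.mem (b := 42324) (show 42324 < 122760 by norm_num) a1_4)).append
      (lvS_sound h.ra h.mem (b := 42324) (show 42324 < 122760 by norm_num) a1_5)).append
      (lvS_sound h.ra h.mem (b := 42324) (show 42324 < 122760 by norm_num) a1_6))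

theorem levA2 : LevC P (closure ({g 1, g 3, g 5} : Set G)) [42324, 1659] 115210 mA2 294 0 122760 :=
    (show LevC P (closure ({g 1, g 3, g 5} : Set G)) [42324, 1659] 115210 mA2 _ _ _ from (lvS_sound h.ra h.mem (b := 115210) (show 115210 < 122760 by norm_num) a2_0))

theorem levA3 : LevC P (closure ({g 1, g 3, g 5} : Set G)) [115210, 42324, 1659] 49002 mA3 2 0 122760 :=
    (show LevC P (closure ({g 1, g 3, g 5} : Set G)) [115210, 42324, 1659] 49002 mA3 _ _ _ from (lvS_sound h.ra h.mem (b := 49002) (show 49002 < 122760 by norm_num) a3_0))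

theorem chainA : ChP P (closure ({g 1, g 3, g 5} : Set G)) lA [] :=
  ⟨(show 1659 < 122760 by norm_num), (levA0 h).1, ⟨(show 42324 < 122760 by norm_num), (levA1 h).1, ⟨(show 115210 < 122760 by norm_num), (levA2 h).1, ⟨(show 49002 < 122760 by norm_num), (levA3 h).1, trivial⟩⟩⟩⟩

theorem levB0 : LevC P (closure ({g 1, g 3, g 5} : Set G)) [] 38828 mB0 122760 0 122760 :=
    ((((((((((((((((((((((((((((((((show LevC P (closure ({g 1, g 3, g 5} : Set G)) [] 38828 mB0 _ _ _ from (lvS_sound h.ra h.mem (b := 38828) (show 38828 < 122760 by norm_num) b0_0)).append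
      (lvS_sound h.ra h.mem (b := 38828) (show 38828 < 122760 by norm_num) b0_1)).append
      (lvS_sound h.ra h.mem (b := 38828) (show 38828 < 122760 by norm_num) b0_2)).append
      (lvS_sound h.ra h.mem (b := 38828) (show 38828 < 122760 by norm_num) b0_3)).append
      (lvS_sound h.ra h.mem (b := 38828) (show 38828 < 122760 by norm_num) b0_4)).append
      (lvS_sound h.ra h.mem (b := 38828) (show 38828 < 122760 by norm_num) b0_5)).append
      (lvS_sound h.ra h.mem (b := 38828) (show 38828 < 122760 by norm_num) b0_6)).append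
      (lvS_sound h.ra h.mem (b := 38828) (show 38828 < 122760 by norm_num) b0_7)).append
      (lvS_sound h.ra h.mem (b := 38828) (show 38828 < 122760 by norm_num) b0_8)).append
      (lvS_sound h.ra h.mem (b := 38828) (show 38828 < 122760 by norm_num) b0_9)).append
      (lvS_sound h.ra h.mem (b := 38828) (show 38828 < 122760 by norm_num) b0_10)).append
      (lvS_sound h.ra h.mem (b := 38828) (show 38828 < 122760 by norm_num) b0_11)).append
      (lvS_sound h.ra h.mem (b := 38828) (show 38828 < 122760 by norm_num) b0_12)).append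
      (lvS_sound h.ra h.mem (b := 38828) (show 38828 < 122760 by norm_num) b0_13)).append
      (lvS_sound h.ra h.mem (b := 38828) (show 38828 < 122760 by norm_num) b0_14)).append
      (lvS_sound h.ra h.mem (b := 38828) (show 38828 < 122760 by norm_num) b0_15)).append
      (lvS_sound h.ra h.mem (b := 38828) (show 38828 < 122760 by norm_num) b0_16)).append
      (lvS_sound h.ra h.mem (b := 38828) (show 38828 < 122760 by norm_num) b0_17)).append
      (lvS_sound h.ra h.mem (b := 38828) (show 38828 < 122760 by norm_num) b0_18)).append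
      (lvS_sound h.ra h.mem (b := 38828) (show 38828 < 122760 by norm_num) b0_19)).append
      (lvS_sound h.ra h.mem (b := 38828) (show 38828 < 122760 by norm_num) b0_20)).append
      (lvS_sound h.ra h.mem (b := 38828) (show 38828 < 122760 by norm_num) b0_21)).append
      (lvS_sound h.ra h.mem (b := 38828) (show 38828 < 122760 by norm_num) b0_22)).append
      (lvS_sound h.ra h.mem (b := 38828) (show 38828 < 122760 by norm_num) b0_23)).append
      (lvS_sound h.ra h.mem (b := 38828) (show 38828 < 122760 by norm_num) b0_24)).append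
      (lvS_sound h.ra h.mem (b := 38828) (show 38828 < 122760 by norm_num) b0_25)).append
      (lvS_sound h.ra h.mem (b := 38828) (show 38828 < 122760 by norm_num) b0_26)).append
      (lvS_sound h.ra h.mem (b := 38828) (show 38828 < 122760 by norm_num) b0_27)).append
      (lvS_sound h.ra h.mem (b := 38828) (show 38828 < 122760 by norm_num) b0_28)).append
      (lvS_sound h.ra h.mem (b := 38828) (show 38828 < 122760 by norm_num) b0_29)).append
      (lvS_sound h.ra h.mem (b := 38828) (show 38828 < 122760 by norm_num) b0_30)).append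
      (lvS_sound h.ra h.mem (b := 38828) (show 38828 < 122760 by norm_num) b0_31))

theorem levB1 : LevC P (closure ({g 1, g 3, g 5} : Set G)) [38828] 59897 mB1 5586 0 122760 :=
    ((((((show LevC P (closure ({g 1, g 3, g 5} : Set G)) [38828] 59897 mB1 _ _ _ from (lvS_sound h.ra h.mem (b := 59897) (show 59897 < 122760 by norm_num) b1_0)).append
      (lvS_sound h.ra h.mem (b := 59897) (show 59897 < 122760 by norm_num) b1_1)).append
      (lvS_sound h.ra h.mem (b := 59897) (show 59897 < 122760 by norm_num) b1_2)).append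
      (lvS_sound h.ra h.mem (b := 59897) (show 59897 < 122760 by norm_num) b1_3)).append
      (lvS_sound h.ra h.mem (b := 59897) (show 59897 < 122760 by norm_num) b1_4)).append
      (lvS_sound h.ra h.mem (b := 59897) (show 59897 < 122760 by norm_num) b1_5))

theorem levB2 : LevC P (closure ({g 1, g 3, g 5} : Set G)) [59897, 38828] 15082 mB2 168 0 122760 :=
    (show LevC P (closure ({g 1, g 3, g 5} : Set G)) [59897, 38828] 15082 mB2 _ _ _ from (lvS_sound h.ra h.mem (b := 15082) (show 15082 < 122760 by norm_num) b2_0))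

theorem levB3 : LevC P (closure ({g 1, g 3, g 5} : Set G)) [15082, 59897, 38828] 21538 mB3 4 0 122760 :=
    (show LevC P (closure ({g 1, g 3, g 5} : Set G)) [15082, 59897, 38828] 21538 mB3 _ _ _ from (lvS_sound h.ra h.mem (b := 21538) (show 21538 < 122760 by norm_num) b3_0))

theorem chainB : ChP P (closure ({g 1, g 3, g 5} : Set G)) lB [] :=
  ⟨(show 38828 < 122760 by norm_num), (levB0 h).1, ⟨(show 59897 < 122760 by norm_num), (levB1 h).1, ⟨(show 15082 < 122760 by norm_num), (levB2 h).1, ⟨(show 21538 < 122760 by norm_num), (levB3 h).1, trivial⟩⟩⟩⟩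

end

theorem basedA : Based P 1 lA := ⟨Nat.eq_of_beq_eq_true (by decide +kernel : Nat.beq (run P 1 1659) 42324 = true), ⟨Nat.eq_of_beq_eq_true (by decide +kernel : Nat.beq (run P 1 42324) 115210 = true), ⟨Nat.eq_of_beq_eq_true (by decide +kernel : Nat.beq (run P 1 115210) 49002 = true), trivial⟩⟩⟩

theorem ltA : ∀ t ∈ lA, t.1 < P.m := by decide +kernel

theorem basedB : Based P 3 lB := ⟨Nat.eq_of_beq_eq_true (by decide +kernel : Nat.beq (run P 3 38828) 59897 = true), ⟨Nat.eq_of_beq_eq_true (by decide +kernel : Nat.beq (run P 3 59897) 15082 = true), ⟨Nat.eq_of_beq_eq_true (by decide +kernel : Nat.beq (run P 3 15082) 21538 = true), trivial⟩⟩⟩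

theorem ltB : ∀ t ∈ lB, t.1 < P.m := by decide +kernel

section

variable {G : Type*} [Group G] [MulAction G (Fin P.m)] {g : ℕ → G} (h : RA P g)

include h

theorem covA (hx : ExP G P lA []) : CovP P (elt g 1) (elt g 0x1) {z | ∃ w ∈ [0], z = elt g w} 1659 0 P.m :=
  (((((((((((((((((((((CovP.of h hx ltA basedA (show pts P 0x1 _ _ [0] (lms lA) _ _ _ = true from sA0) rfl (by decide +kernel)).trans
    (CovP.of h hx ltA basedA (show pts P 0x1 _ _ [0] (lms lA) _ _ _ = true from sA1) rfl (by decide +kernel))).trans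
    (CovP.of h hx ltA basedA (show pts P 0x1 _ _ [0] (lms lA) _ _ _ = true from sA2) rfl (by decide +kernel))).trans
    (CovP.of h hx ltA basedA (show pts P 0x1 _ _ [0] (lms lA) _ _ _ = true from sA3) rfl (by decide +kernel))).trans
    (CovP.of h hx ltA basedA (show pts P 0x1 _ _ [0] (lms lA) _ _ _ = true from sA4) rfl (by decide +kernel))).trans
    (CovP.of h hx ltA basedA (show pts P 0x1 _ _ [0] (lms lA) _ _ _ = true from sA5) rfl (by decide +kernel))).trans
    (CovP.of h hx ltA basedA (show pts P 0x1 _ _ [0] (lms lA) _ _ _ = true from sA6) rfl (by decide +kernel))).trans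
    (CovP.of h hx ltA basedA (show pts P 0x1 _ _ [0] (lms lA) _ _ _ = true from sA7) rfl (by decide +kernel))).trans
    (CovP.of h hx ltA basedA (show pts P 0x1 _ _ [0] (lms lA) _ _ _ = true from sA8) rfl (by decide +kernel))).trans
    (CovP.of h hx ltA basedA (show pts P 0x1 _ _ [0] (lms lA) _ _ _ = true from sA9) rfl (by decide +kernel))).trans
    (CovP.of h hx ltA basedA (show pts P 0x1 _ _ [0] (lms lA) _ _ _ = true from sA10) rfl (by decide +kernel))).trans
    (CovP.of h hx ltA basedA (show pts P 0x1 _ _ [0] (lms lA) _ _ _ = true from sA11) rfl (by decide +kernel))).trans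
    (CovP.of h hx ltA basedA (show pts P 0x1 _ _ [0] (lms lA) _ _ _ = true from sA12) rfl (by decide +kernel))).trans
    (CovP.of h hx ltA basedA (show pts P 0x1 _ _ [0] (lms lA) _ _ _ = true from sA13) rfl (by decide +kernel))).trans
    (CovP.of h hx ltA basedA (show pts P 0x1 _ _ [0] (lms lA) _ _ _ = true from sA14) rfl (by decide +kernel))).trans
    (CovP.of h hx ltA basedA (show pts P 0x1 _ _ [0] (lms lA) _ _ _ = true from sA15) rfl (by decide +kernel))).trans
    (CovP.of h hx ltA basedA (show pts P 0x1 _ _ [0] (lms lA) _ _ _ = true from sA16) rfl (by decide +kernel))).trans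
    (CovP.of h hx ltA basedA (show pts P 0x1 _ _ [0] (lms lA) _ _ _ = true from sA17) rfl (by decide +kernel))).trans
    (CovP.of h hx ltA basedA (show pts P 0x1 _ _ [0] (lms lA) _ _ _ = true from sA18) rfl (by decide +kernel))).trans
    (CovP.of h hx ltA basedA (show pts P 0x1 _ _ [0] (lms lA) _ _ _ = true from sA19) rfl (by decide +kernel))).trans
    (CovP.of h hx ltA basedA (show pts P 0x1 _ _ [0] (lms lA) _ _ _ = true from sA20) rfl (by decide +kernel)))

theorem covB (hx : ExP G P lB []) : CovP P (elt g 3) (elt g 0x4) {z | ∃ w ∈ (gs.map fun t => t.1), z = elt g w} 38828 0 P.m :=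
  (((((((((((((((((((((((((((((((((((CovP.of h hx ltB basedB (show pts P 0x4 _ _ (gs.map fun t => t.1) (lms lB) _ _ _ = true from sB0) rfl (by decide +kernel)).trans
    (CovP.of h hx ltB basedB (show pts P 0x4 _ _ (gs.map fun t => t.1) (lms lB) _ _ _ = true from sB1) rfl (by decide +kernel))).trans
    (CovP.of h hx ltB basedB (show pts P 0x4 _ _ (gs.map fun t => t.1) (lms lB) _ _ _ = true from sB2) rfl (by decide +kernel))).trans
    (CovP.of h hx ltB basedB (show pts P 0x4 _ _ (gs.map fun t => t.1) (lms lB) _ _ _ = true from sB3) rfl (by decide +kernel))).trans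
    (CovP.of h hx ltB basedB (show pts P 0x4 _ _ (gs.map fun t => t.1) (lms lB) _ _ _ = true from sB4) rfl (by decide +kernel))).trans
    (CovP.of h hx ltB basedB (show pts P 0x4 _ _ (gs.map fun t => t.1) (lms lB) _ _ _ = true from sB5) rfl (by decide +kernel))).trans
    (CovP.of h hx ltB basedB (show pts P 0x4 _ _ (gs.map fun t => t.1) (lms lB) _ _ _ = true from sB6) rfl (by decide +kernel))).trans
    (CovP.of h hx ltB basedB (show pts P 0x4 _ _ (gs.map fun t => t.1) (lms lB) _ _ _ = true from sB7) rfl (by decide +kernel))).trans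
    (CovP.of h hx ltB basedB (show pts P 0x4 _ _ (gs.map fun t => t.1) (lms lB) _ _ _ = true from sB8) rfl (by decide +kernel))).trans
    (CovP.of h hx ltB basedB (show pts P 0x4 _ _ (gs.map fun t => t.1) (lms lB) _ _ _ = true from sB9) rfl (by decide +kernel))).trans
    (CovP.of h hx ltB basedB (show pts P 0x4 _ _ (gs.map fun t => t.1) (lms lB) _ _ _ = true from sB10) rfl (by decide +kernel))).trans
    (CovP.of h hx ltB basedB (show pts P 0x4 _ _ (gs.map fun t => t.1) (lms lB) _ _ _ = true from sB11) rfl (by decide +kernel))).trans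
    (CovP.of h hx ltB basedB (show pts P 0x4 _ _ (gs.map fun t => t.1) (lms lB) _ _ _ = true from sB12) rfl (by decide +kernel))).trans
    (CovP.of h hx ltB basedB (show pts P 0x4 _ _ (gs.map fun t => t.1) (lms lB) _ _ _ = true from sB13) rfl (by decide +kernel))).trans
    (CovP.of h hx ltB basedB (show pts P 0x4 _ _ (gs.map fun t => t.1) (lms lB) _ _ _ = true from sB14) rfl (by decide +kernel))).trans
    (CovP.of h hx ltB basedB (show pts P 0x4 _ _ (gs.map fun t => t.1) (lms lB) _ _ _ = true from sB15) rfl (by decide +kernel))).trans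
    (CovP.of h hx ltB basedB (show pts P 0x4 _ _ (gs.map fun t => t.1) (lms lB) _ _ _ = true from sB16) rfl (by decide +kernel))).trans
    (CovP.of h hx ltB basedB (show pts P 0x4 _ _ (gs.map fun t => t.1) (lms lB) _ _ _ = true from sB17) rfl (by decide +kernel))).trans
    (CovP.of h hx ltB basedB (show pts P 0x4 _ _ (gs.map fun t => t.1) (lms lB) _ _ _ = true from sB18) rfl (by decide +kernel))).trans
    (CovP.of h hx ltB basedB (show pts P 0x4 _ _ (gs.map fun t => t.1) (lms lB) _ _ _ = true from sB19) rfl (by decide +kernel))).trans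
    (CovP.of h hx ltB basedB (show pts P 0x4 _ _ (gs.map fun t => t.1) (lms lB) _ _ _ = true from sB20) rfl (by decide +kernel))).trans
    (CovP.of h hx ltB basedB (show pts P 0x4 _ _ (gs.map fun t => t.1) (lms lB) _ _ _ = true from sB21) rfl (by decide +kernel))).trans
    (CovP.of h hx ltB basedB (show pts P 0x4 _ _ (gs.map fun t => t.1) (lms lB) _ _ _ = true from sB22) rfl (by decide +kernel))).trans
    (CovP.of h hx ltB basedB (show pts P 0x4 _ _ (gs.map fun t => t.1) (lms lB) _ _ _ = true from sB23) rfl (by decide +kernel))).trans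
    (CovP.of h hx ltB basedB (show pts P 0x4 _ _ (gs.map fun t => t.1) (lms lB) _ _ _ = true from sB24) rfl (by decide +kernel))).trans
    (CovP.of h hx ltB basedB (show pts P 0x4 _ _ (gs.map fun t => t.1) (lms lB) _ _ _ = true from sB25) rfl (by decide +kernel))).trans
    (CovP.of h hx ltB basedB (show pts P 0x4 _ _ (gs.map fun t => t.1) (lms lB) _ _ _ = true from sB26) rfl (by decide +kernel))).trans
    (CovP.of h hx ltB basedB (show pts P 0x4 _ _ (gs.map fun t => t.1) (lms lB) _ _ _ = true from sB27) rfl (by decide +kernel))).trans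
    (CovP.of h hx ltB basedB (show pts P 0x4 _ _ (gs.map fun t => t.1) (lms lB) _ _ _ = true from sB28) rfl (by decide +kernel))).trans
    (CovP.of h hx ltB basedB (show pts P 0x4 _ _ (gs.map fun t => t.1) (lms lB) _ _ _ = true from sB29) rfl (by decide +kernel))).trans
    (CovP.of h hx ltB basedB (show pts P 0x4 _ _ (gs.map fun t => t.1) (lms lB) _ _ _ = true from sB30) rfl (by decide +kernel))).trans
    (CovP.of h hx ltB basedB (show pts P 0x4 _ _ (gs.map fun t => t.1) (lms lB) _ _ _ = true from sB31) rfl (by decide +kernel))).trans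
    (CovP.of h hx ltB basedB (show pts P 0x4 _ _ (gs.map fun t => t.1) (lms lB) _ _ _ = true from sB32) rfl (by decide +kernel))).trans
    (CovP.of h hx ltB basedB (show pts P 0x4 _ _ (gs.map fun t => t.1) (lms lB) _ _ _ = true from sB33) rfl (by decide +kernel))).trans
    (CovP.of h hx ltB basedB (show pts P 0x4 _ _ (gs.map fun t => t.1) (lms lB) _ _ _ = true from sB34) rfl (by decide +kernel)))

theorem covC (hx : ExP G P lA []) : CovP P (elt g 1) (elt g 0x49) {z | ∃ w ∈ (gc.map fun t => t.1), z = elt g w} 1659 0 P.m :=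
  (((((((((((((((((((((CovP.of h hx ltA basedA (show pts P 0x49 _ _ (gc.map fun t => t.1) (lms lA) _ _ _ = true from sC0) rfl (by decide +kernel)).trans
    (CovP.of h hx ltA basedA (show pts P 0x49 _ _ (gc.map fun t => t.1) (lms lA) _ _ _ = true from sC1) rfl (by decide +kernel))).trans
    (CovP.of h hx ltA basedA (show pts P 0x49 _ _ (gc.map fun t => t.1) (lms lA) _ _ _ = true from sC2) rfl (by decide +kernel))).trans
    (CovP.of h hx ltA basedA (show pts P 0x49 _ _ (gc.map fun t => t.1) (lms lA) _ _ _ = true from sC3) rfl (by decide +kernel))).trans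
    (CovP.of h hx ltA basedA (show pts P 0x49 _ _ (gc.map fun t => t.1) (lms lA) _ _ _ = true from sC4) rfl (by decide +kernel))).trans
    (CovP.of h hx ltA basedA (show pts P 0x49 _ _ (gc.map fun t => t.1) (lms lA) _ _ _ = true from sC5) rfl (by decide +kernel))).trans
    (CovP.of h hx ltA basedA (show pts P 0x49 _ _ (gc.map fun t => t.1) (lms lA) _ _ _ = true from sC6) rfl (by decide +kernel))).trans
    (CovP.of h hx ltA basedA (show pts P 0x49 _ _ (gc.map fun t => t.1) (lms lA) _ _ _ = true from sC7) rfl (by decide +kernel))).trans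
    (CovP.of h hx ltA basedA (show pts P 0x49 _ _ (gc.map fun t => t.1) (lms lA) _ _ _ = true from sC8) rfl (by decide +kernel))).trans
    (CovP.of h hx ltA basedA (show pts P 0x49 _ _ (gc.map fun t => t.1) (lms lA) _ _ _ = true from sC9) rfl (by decide +kernel))).trans
    (CovP.of h hx ltA basedA (show pts P 0x49 _ _ (gc.map fun t => t.1) (lms lA) _ _ _ = true from sC10) rfl (by decide +kernel))).trans
    (CovP.of h hx ltA basedA (show pts P 0x49 _ _ (gc.map fun t => t.1) (lms lA) _ _ _ = true from sC11) rfl (by decide +kernel))).trans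
    (CovP.of h hx ltA basedA (show pts P 0x49 _ _ (gc.map fun t => t.1) (lms lA) _ _ _ = true from sC12) rfl (by decide +kernel))).trans
    (CovP.of h hx ltA basedA (show pts P 0x49 _ _ (gc.map fun t => t.1) (lms lA) _ _ _ = true from sC13) rfl (by decide +kernel))).trans
    (CovP.of h hx ltA basedA (show pts P 0x49 _ _ (gc.map fun t => t.1) (lms lA) _ _ _ = true from sC14) rfl (by decide +kernel))).trans
    (CovP.of h hx ltA basedA (show pts P 0x49 _ _ (gc.map fun t => t.1) (lms lA) _ _ _ = true from sC15) rfl (by decide +kernel))).trans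
    (CovP.of h hx ltA basedA (show pts P 0x49 _ _ (gc.map fun t => t.1) (lms lA) _ _ _ = true from sC16) rfl (by decide +kernel))).trans
    (CovP.of h hx ltA basedA (show pts P 0x49 _ _ (gc.map fun t => t.1) (lms lA) _ _ _ = true from sC17) rfl (by decide +kernel))).trans
    (CovP.of h hx ltA basedA (show pts P 0x49 _ _ (gc.map fun t => t.1) (lms lA) _ _ _ = true from sC18) rfl (by decide +kernel))).trans
    (CovP.of h hx ltA basedA (show pts P 0x49 _ _ (gc.map fun t => t.1) (lms lA) _ _ _ = true from sC19) rfl (by decide +kernel))).trans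
    (CovP.of h hx ltA basedA (show pts P 0x49 _ _ (gc.map fun t => t.1) (lms lA) _ _ _ = true from sC20) rfl (by decide +kernel)))

end


theorem hks : ∀ m < 31, m ≠ 0 → ∃ a : ℕ, (10 ^ a * m) % 31 = 1 ∨ (10 ^ a * m) % 31 = 3 := by
  have h : ∀ m < 31, m ≠ 0 → ∃ a < 31, (10 ^ a * m) % 31 = 1 ∨ (10 ^ a * m) % 31 = 3 := by decide +kernel
  intro m h1 h2
  obtain ⟨a, _, h3⟩ := h m h1 h2
  exact ⟨a, h3⟩

theorem concl {G : Type} [Group G] [Finite G] {f : ℕ → G} (hN : Nat.card G = 460815505920) [MulAction G (Fin P.m)] (h : LettersOK P (newL f ws)) :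
    Concl G (newL f ws 1) (newL f ws 3) (newL f ws 5) ((newL f ws 1) ^ 3) (elt (newL f ws) e2) (true = true) ∧
      closure ({newL f ws 1, newL f ws 3, newL f ws 5} : Set G) = ⊤ ∧ ExP G P lA [] ∧ ExP G P lB [] := by
  have cA := chainA h
  have cB := chainB h
  have hcA : Nat.card G ≤ (lA.map fun t => t.2.2).prod := by rw [hN]; decide +kernel
  have hcB : Nat.card G ≤ (lB.map fun t => t.2.2).prod := by rw [hN]; decide +kernel
  have xA := cA.exact' hcA
  have xB := cB.exact' hcB
  have : Fact (Nat.Prime 31) := ⟨by norm_num⟩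
  refine ⟨?_, cA.top hcA, xA, xB⟩
  exact sift_main h (p := 31) (by rw [hN]; decide +kernel) (hB := xB) (bA := 1659) (bB := 38828) (by decide +kernel) (by decide +kernel)
    (fun i hi => covA h.ra xA i (Nat.zero_le _) hi) (fun i hi => covB h.ra xB i (Nat.zero_le _) hi)
    ⟨28, 23, by decide +kernel, by decide +kernel⟩ hks small (by norm_num) c1 c2

end Cfsg.Agent.H90.SiftON
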