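import Cfsg.Agent.H90.SiftON.Data
import Cfsg.Agent.CosetEnum.ON.T8Data

/-! Check (generated, owner: helper90). -/

set_option autoImplicit false
set_option maxRecDepth 1000000

namespace Cfsg.Agent.H90.SiftON

open Cfsg.Agent.CosetEnum Cfsg.Agent.H90.Sift

theorem n65 : allR (newB P Cfsg.Agent.CosetEnum.ONT8.P ws) 97500 1500 = true := by decide +kernel

theorem n66 : allR (newB P Cfsg.Agent.CosetEnum.ONT8.P ws) 99000 1500 = true := by decide +kernel

theorem n67 : allR (newB P Cfsg.Agent.CosetEnum.ONT8.P ws) 100500 1500 = true := by decide +kernel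

theorem n68 : allR (newB P Cfsg.Agent.CosetEnum.ONT8.P ws) 102000 1500 = true := by decide +kernel

theorem n69 : allR (newB P Cfsg.Agent.CosetEnum.ONT8.P ws) 103500 1500 = true := by decide +kernel


end Cfsg.Agent.H90.SiftON
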