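import Cfsg.Agent.H90.SiftON.Data

/-! Check (generated, owner: helper90). -/

set_option autoImplicit false
set_option maxRecDepth 1000000

namespace Cfsg.Agent.H90.SiftON

open Cfsg.Agent.CosetEnum Cfsg.Agent.H90.Sift

theorem sC16 : pts P 0x49 225 0x1ffffffffffffffffffffffffffffffffffffffffffffffffffffffff gcw LA 10000 78723 0x0 = true := by decide +kernel

theorem sC17 : pts P 0x49 225 0x1ffffffffffffffffffffffffffffffffffffffffffffffffffffffff gcw LA 10000 88723 0x0 = true := by decide +kernel

theorem sC18 : pts P 0x49 225 0x1ffffffffffffffffffffffffffffffffffffffffffffffffffffffff gcw LA 10000 98723 0x0 = true := by decide +kernel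

theorem sC19 : pts P 0x49 225 0x1ffffffffffffffffffffffffffffffffffffffffffffffffffffffff gcw LA 10000 108723 0x0 = true := by decide +kernel

end Cfsg.Agent.H90.SiftON
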